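import Cfsg.Agent.PQ.Red.A
import Cfsg.Agent.PQ.Alt.Main
import Cfsg.Agent.H315.Cov.All
import Cfsg.Agent.H341.Rel.PsuRow
import Cfsg.Agent.H371.HT.Three
import Cfsg.Agent.H800.Sp.NotAbA
import Cfsg.Agent.H404.K6.SporON
import Cfsg.Agent.H968.TwoM22Fact

/-!
# PQ: the rows `Mu` (helper72)

* `not_com3`: the Sylow `3`-subgroup of `PSL₃`, `PSU₃` commutes with no other Sylow subgroup if the centre of the
  linear group has order three;
* `psl`, `psu`: in the commuting case the primes do not divide the order of the centre of `SL_n`, `SU_n`;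
* `chev3`, `tw6_3`, `tw4_3`, `tf4_3`: the prime three does not occur for the exceptional groups;
* `spor3`: nor for the sporadic groups with a multiplier of order divisible by three;
* `not_case`: the list of the multipliers; `known`: **the row `Mu` for all known simple groups**.
-/

set_option autoImplicit false

namespace Cfsg.Agent.PQ.MuL

open Cfsg Cfsg.Agent.LV Cfsg.Agent.PQ.Red Matrix Subgroup Cfsg.Agent.H315.Cov

universe u v

theorem comm_of_mod {K : Type u} [Group K] {y d : K} {p : ℕ} (hZ : ∀ z ∈ center K, z ^ 3 = 1)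
    (hp : Nat.Coprime p 3) (hy : y ^ p = 1)
    (h : (QuotientGroup.mk y : K ⧸ center K) * QuotientGroup.mk d = QuotientGroup.mk d * QuotientGroup.mk y) :
    y * d = d * y := by
  have h1 : (y * d)⁻¹ * (d * y) ∈ center K := by
    rw [← QuotientGroup.eq]
    exact h
  obtain ⟨z, hz⟩ : ∃ z, z = (y * d)⁻¹ * (d * y) := ⟨_, rfl⟩
  rw [← hz] at h1
  have h2 : d * y = y * d * z := by rw [hz, mul_inv_cancel_left]
  have h3 : ∀ n : ℕ, d * y ^ n = y ^ n * d * z ^ n := by
    intro n
    induction n with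
    | zero => simp
    | succ n ih =>
      have h4 : z ^ n * y = y * z ^ n := (mem_center_iff.1 (pow_mem h1 n) y).symm
      calc d * y ^ (n + 1) = y ^ n * d * (z ^ n * y) := by rw [pow_succ, ← mul_assoc, ih, mul_assoc]
        _ = y ^ n * (d * y) * z ^ n := by rw [h4]; simp only [mul_assoc]
        _ = y ^ (n + 1) * d * z ^ (n + 1) := by rw [h2, pow_succ, pow_succ']; simp only [mul_assoc]
  have h4 : z ^ p = 1 := by
    have h5 := h3 p
    rw [hy, mul_one, one_mul] at h5
    exact (mul_eq_left.1 h5.symm)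
  have h5 : z = 1 := by
    rw [← orderOf_eq_one_iff]
    exact Nat.eq_one_of_dvd_coprimes hp (orderOf_dvd_of_pow_eq_one h4) (orderOf_dvd_of_pow_eq_one (hZ z h1))
  rw [h2, h5, mul_one]

section three

variable {F : Type*} [Field F] {K : Type u} [Group K] (μ : K →* Matrix (Fin 3) (Fin 3) F)

/-- a matrix which commutes with the two generators is a scalar matrix -/
theorem scalar_of {w : F} (hw : w ^ 3 = 1) (hw1 : w ≠ 1) {A : Matrix (Fin 3) (Fin 3) F}
    (h1 : A * !![1, 0, 0; 0, w, 0; 0, 0, w ^ 2] = !![1, 0, 0; 0, w, 0; 0, 0, w ^ 2] * A)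
    (h2 : A * !![0, 1, 0; 0, 0, 1; 1, 0, 0] = !![0, 1, 0; 0, 0, 1; 1, 0, 0] * A) : A = A 0 0 • 1 := by
  have hw0 : w ≠ 0 := by
    rintro rfl
    simp at hw
  have a1 : w - 1 ≠ 0 := sub_ne_zero.2 hw1
  have a2 : w ^ 2 - 1 ≠ 0 := by
    intro h
    apply hw1
    have : w ^ 3 = w * w ^ 2 := by ring
    rw [this, sub_eq_zero.1 h, mul_one] at hw
    exact hw
  have a3 : w ^ 2 - w ≠ 0 := by
    have : w ^ 2 - w = w * (w - 1) := by ring
    rw [this]
    exact mul_ne_zero hw0 a1
  have e (i j : Fin 3) := congrFun (congrFun h1 i) j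
  have f (i j : Fin 3) := congrFun (congrFun h2 i) j
  have e01 := e 0 1
  have e02 := e 0 2
  have e10 := e 1 0
  have e12 := e 1 2
  have e20 := e 2 0
  have e21 := e 2 1
  have f01 := f 0 1
  have f12 := f 1 2
  simp [Matrix.mul_apply, Fin.sum_univ_three] at e01 e02 e10 e12 e20 e21 f01 f12
  have b01 : A 0 1 = 0 := by
    refine (mul_eq_zero.1 (show A 0 1 * (w - 1) = 0 by linear_combination e01)).resolve_right a1
  have b02 : A 0 2 = 0 := by
    refine (mul_eq_zero.1 (show A 0 2 * (w ^ 2 - 1) = 0 by linear_combination e02)).resolve_right a2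
  have b10 : A 1 0 = 0 := by
    refine (mul_eq_zero.1 (show A 1 0 * (w - 1) = 0 by linear_combination -e10)).resolve_right a1
  have b12 : A 1 2 = 0 := by
    refine (mul_eq_zero.1 (show A 1 2 * (w ^ 2 - w) = 0 by linear_combination e12)).resolve_right a3
  have b20 : A 2 0 = 0 := by
    refine (mul_eq_zero.1 (show A 2 0 * (w ^ 2 - 1) = 0 by linear_combination -e20)).resolve_right a2
  have b21 : A 2 1 = 0 := by
    refine (mul_eq_zero.1 (show A 2 1 * (w ^ 2 - w) = 0 by linear_combination -e21)).resolve_right a3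
  ext i j
  fin_cases i <;> fin_cases j <;> simp [b01, b02, b10, b12, b20, b21, f01, f12]

/-- **The Sylow `3`-subgroup is self-centralizing.** -/
theorem not_com3 [Finite K] (hι : Function.Injective μ) (hdet : ∀ g, (μ g).det = 1) {w : F} (hw : w ^ 3 = 1)
    (hw1 : w ≠ 1) {d c : K} (hd : μ d = !![1, 0, 0; 0, w, 0; 0, 0, w ^ 2])
    (hc : μ c = !![0, 1, 0; 0, 0, 1; 1, 0, 0]) {p : ℕ} (hp : p.Prime) (hp3 : p ≠ 3)
    (hdv : p ∣ Nat.card (K ⧸ center K)) : ¬ Com p 3 (K ⧸ center K) := by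
  intro hcom
  have : Fact p.Prime := ⟨hp⟩
  have : Fact (Nat.Prime 3) := ⟨Nat.prime_three⟩
  have hsc : ∀ g : K, g * d = d * g → g * c = c * g → μ g = μ g 0 0 • 1 := fun g h1 h2 =>
    scalar_of hw hw1 (by rw [← hd, ← map_mul, h1, map_mul]) (by rw [← hc, ← map_mul, h2, map_mul])
  have hcen : ∀ (g : K) (a : F), μ g = a • 1 → g ∈ center K := fun g a h => mem_center_iff.2 fun x => hι (by
    rw [map_mul, map_mul, h]; simp)
  have hZ : ∀ z ∈ center K, z ^ 3 = 1 := fun z hz => by
    have h1 := hsc z (mem_center_iff.1 hz d).symm (mem_center_iff.1 hz c).symm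
    have h2 := hdet z
    rw [h1, det_smul, det_one, mul_one, Fintype.card_fin] at h2
    apply hι
    rw [map_pow, h1, smul_pow, h2, one_pow, one_smul, map_one]
  have hd3 : d ^ 3 = 1 := hι (by
    rw [map_pow, hd, map_one, pow_three, Matrix.mul_fin_three, Matrix.mul_fin_three, Matrix.one_fin_three]
    congr 1
    have h1 : w * (w * w) = 1 := by rw [← hw]; ring
    have h2 : w ^ 2 * (w ^ 2 * w ^ 2) = 1 := by rw [show w ^ 2 * (w ^ 2 * w ^ 2) = (w ^ 3) ^ 2 by ring, hw, one_pow]
    simp [h1, h2])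
  have hc3 : c ^ 3 = 1 := hι (by
    rw [map_pow, hc, map_one, pow_three, Matrix.mul_fin_three, Matrix.mul_fin_three, Matrix.one_fin_three]
    simp)
  let π := QuotientGroup.mk' (center K)
  have hdc : π d * π c = π c * π d := by
    rw [← map_mul, ← map_mul]
    refine QuotientGroup.eq.2 (hcen _ w ?_)
    have h1 : μ (c * d) = w • μ (d * c) := by
      rw [map_mul, map_mul, hd, hc, Matrix.mul_fin_three, Matrix.mul_fin_three]
      have h2 : w * (w * w) = 1 := by rw [← hw]; ring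
      ext i j
      fin_cases i <;> fin_cases j <;> simp [h2, pow_two]
    rw [map_mul, h1, Matrix.mul_smul, ← map_mul, inv_mul_cancel, map_one]
  have hz : ∀ x : K, x ^ 3 = 1 → IsPGroup 3 (zpowers (π x)) := fun x hx => by
    refine IsPGroup.of_card_dvd_pow (n := 1) ?_
    rw [Nat.card_zpowers, pow_one]
    exact orderOf_dvd_of_pow_eq_one (by rw [← map_pow, hx, map_one])
  have hN : zpowers (π c) ≤ normalizer ((zpowers (π d) : Subgroup (K ⧸ center K)) : Set (K ⧸ center K)) := by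
    refine le_trans ?_ (centralizer_le_normalizer _)
    rw [zpowers_le, mem_centralizer_iff]
    rintro _ ⟨k, rfl⟩
    exact (Commute.zpow_left (show Commute (π d) (π c) from hdc) k).eq
  obtain ⟨Q, hQ⟩ := ((hz d hd3).to_sup_of_normal_left' (hz c hc3) hN).exists_le_sylow
  obtain ⟨P, hP⟩ := com_given Nat.prime_three hcom.symm Q
  obtain ⟨⟨x, hxP⟩, hx⟩ := exists_prime_orderOf_dvd_card' p (G := P) (P.dvd_card_of_dvd_card hdv)
  rw [orderOf_mk] at hx
  obtain ⟨g, rfl⟩ := QuotientGroup.mk'_surjective (center K) x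
  have hcop : Nat.Coprime p 3 := (Nat.coprime_primes hp Nat.prime_three).2 hp3
  have hg : (g ^ 3) ^ p = 1 := by
    rw [← pow_mul, mul_comm, pow_mul]
    refine hZ _ ((QuotientGroup.eq_one_iff _).1 ?_)
    show π (g ^ p) = 1
    rw [map_pow, ← hx, pow_orderOf_eq_one]
  have hy : π (g ^ 3) ∈ (P : Subgroup (K ⧸ center K)) := by
    rw [map_pow]
    exact pow_mem hxP 3
  have h1 := comm_of_mod hZ hcop hg (d := d) (hP _ (hQ (mem_sup_left (mem_zpowers _))) _ hy).symm
  have h2 := comm_of_mod hZ hcop hg (d := c) (hP _ (hQ (mem_sup_right (mem_zpowers _))) _ hy).symm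
  have h3 : π (g ^ 3) = 1 := (QuotientGroup.eq_one_iff _).2 (hcen _ _ (hsc _ h1 h2))
  rw [map_pow] at h3
  have h4 := orderOf_dvd_of_pow_eq_one h3
  rw [hx] at h4
  exact hp3 ((Nat.prime_dvd_prime_iff_eq hp Nat.prime_three).1 h4)

end three

variable {S : Type u} [Group S] {p q : ℕ}

theorem absylow {T : Type v} [Group T] (h : AbS q S) (e : S ≃* T) : H726.Rel.AbSylow q T :=
  H726.Rel.AbSylow.congr e fun P a ha b hb => congrArg Subtype.val ((h P).is_comm.comm ⟨a, ha⟩ ⟨b, hb⟩)

theorem not_notAb {T : Type v} [Group T] (h : AbS q S) (e : S ≃* T) : ¬ H800.Sp.NotAb q T := fun h1 => by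
  obtain ⟨P⟩ : Nonempty (Sylow q T) := inferInstance
  exact h1 P ⟨⟨fun a b => Subtype.ext (absylow h e P a.1 a.2 b.1 b.2)⟩⟩

theorem ne_one_of {F : Type*} [Field F] {w : F} (hq : q.Prime) (hw : orderOf w = q) : w ≠ 1 := by
  rintro rfl
  rw [orderOf_one] at hw
  exact hq.one_lt.ne hw

/-- **`PSL_n`**: the primes do not divide the order of the centre of `SL_n`. -/
theorem psl [Finite S] (h : Pair p q S) {F : Type} [Field F] [Fintype F] {n : ℕ} (hn : 2 ≤ n)
    (e : S ≃* ProjectiveSpecialLinearGroup (Fin n) F) : ¬ q ∣ Nat.gcd n (Fintype.card F - 1) := by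
  intro hd
  have hqn : q ∣ n := hd.trans (Nat.gcd_dvd_left _ _)
  have hle : q ≤ n := Nat.le_of_dvd (by omega) hqn
  have hq3 : 3 ≤ q := by have := h.pq.two_le; have := h.q2; omega
  obtain ⟨w, hw⟩ := H341.Rel.exists_order (hd.trans (Nat.gcd_dvd_right _ _))
  have hw1 := ne_one_of h.pq hw
  have hn3 : n = 3 := by
    by_contra hne
    exact H341.Rel.not_ab_psl (k := 1) (by omega) h.pq h.q2 hle
      (by rw [pow_one, ← hw]; exact pow_orderOf_eq_one w) hw1 (Or.inl (by omega)) (absylow h.abq e)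
  subst hn3
  obtain rfl : q = 3 := by omega
  have hw3 : w ^ 3 = 1 := by rw [← hw]; exact pow_orderOf_eq_one w
  refine not_com3 (K := SpecialLinearGroup (Fin 3) F) (slToMat 3 F) (fun a b h => Subtype.ext h) (fun g => g.2) hw3 hw1
    (d := ⟨!![1, 0, 0; 0, w, 0; 0, 0, w ^ 2], ?_⟩) (c := ⟨!![0, 1, 0; 0, 0, 1; 1, 0, 0], ?_⟩) rfl rfl h.pp h.ne
    (by rw [← Nat.card_congr e.toEquiv]; exact h.dp) (com_surj h.pp h.pq h.com e.toMonoidHom e.surjective)
  · rw [det_fin_three]
    simp only [of_apply, cons_val', cons_val_zero, cons_val_one, cons_val, cons_val_fin_one]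
    linear_combination hw3
  · simp [det_fin_three]

/-- **`PSU_n`**: the primes do not divide the order of the centre of `SU_n`. -/
theorem psu [Finite S] (h : Pair p q S) {F : Type} [Field F] [Fintype F] {n r : ℕ} (hF : Fintype.card F = r ^ 2)
    (hn : 3 ≤ n) (e : S ≃* PSU n F r) : ¬ q ∣ Nat.gcd n (r + 1) := by
  intro hd
  have hqn : q ∣ n := hd.trans (Nat.gcd_dvd_left _ _)
  have hqr : q ∣ r + 1 := hd.trans (Nat.gcd_dvd_right _ _)
  have hle : q ≤ n := Nat.le_of_dvd (by omega) hqn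
  have hq3 : 3 ≤ q := by have := h.pq.two_le; have := h.q2; omega
  obtain ⟨w, hw⟩ := H341.Rel.exists_order (F := F) (r := q) (by
    rw [hF, show r ^ 2 - 1 = (r + 1) * (r - 1) by rw [← Nat.sq_sub_sq, one_pow]]
    exact Dvd.dvd.mul_right hqr _)
  have hw1 := ne_one_of h.pq hw
  have hwr : w ^ (r + 1) = 1 := by
    obtain ⟨m, hm⟩ := hqr
    rw [hm, pow_mul, ← hw, pow_orderOf_eq_one, one_pow]
  have hn3 : n = 3 := by
    by_contra hne
    exact H341.Rel.not_ab_psu (k := 1) hn h.pq h.q2 hle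
      (by rw [pow_one, ← hw]; exact pow_orderOf_eq_one w) hwr hw1 (Or.inl (by omega)) (absylow h.abq e)
  subst hn3
  obtain rfl : q = 3 := by omega
  have hw3 : w ^ 3 = 1 := by rw [← hw]; exact pow_orderOf_eq_one w
  refine not_com3 (K := SU 3 F r) ((slToMat 3 F).comp (SU 3 F r).subtype)
    (fun a b h => Subtype.ext (Subtype.ext h)) (fun g => g.1.2) hw3 hw1
    (d := LieClassical.SUBasic.suDiag r ![1, w, w ^ 2] ?_ ?_)
    (c := LieClassical.SUBasic.suPerm r (finRotate 3) (by decide)) ?_ ?_ h.pp h.ne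
    (by rw [← Nat.card_congr e.toEquiv]; exact h.dp) (com_surj h.pp h.pq h.com e.toMonoidHom e.surjective)
  · rw [Fin.prod_univ_three]
    simp only [cons_val_zero, cons_val_one, cons_val]
    linear_combination hw3
  · intro i
    fin_cases i
    · simp
    · simpa using hwr
    · show (w ^ 2) ^ (r + 1) = 1
      rw [← pow_mul, mul_comm, pow_mul, hwr, one_pow]
  · show diagonal ![1, w, w ^ 2] = _
    ext i j
    fin_cases i <;> fin_cases j <;> simp
  · show (finRotate 3).permMatrix F = _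
    ext i j
    fin_cases i <;> fin_cases j <;> simp [Equiv.Perm.permMatrix, PEquiv.toMatrix_apply, Equiv.toPEquiv_apply]

theorem charP_of {F : Type} [Field F] [Fintype F] (hq : q.Prime) (h : q ∣ Fintype.card F) : CharP F q := by
  obtain ⟨r, hr, hF⟩ := ex_char F
  obtain ⟨n, -, hn⟩ := FiniteField.card F r
  rw [hn] at h
  rw [(Nat.prime_dvd_prime_iff_eq hq hr).1 (hq.dvd_of_dvd_pow h)]
  exact hF

theorem not_char (h : Pair p q S) : ¬ IsLieTypeChar q S := fun h1 => (h.nc q h.pq h1).2 rfl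

/-- the prime three does not occur for `G₂`, `F₄`, `E₆`, `E₇`, `E₈` -/
theorem chev3 {F : Type} [Field F] [Fintype F] {D : Lie.ChevalleyDatum}
    (hD : D ∈ [Lie.chevG2, Lie.chevF4, Lie.chevE6, Lie.chevE7, Lie.chevE8]) (e : S ≃* ↥(D.group F)) :
    ¬ Pair p 3 S := fun h => by
  by_cases h3 : 3 ∣ Fintype.card F
  · have := charP_of Nat.prime_three h3
    refine not_char h (.inr (.inr (.inr (.inr (.inr (.inr (.inl ⟨F, inferInstance, inferInstance, this, ?_⟩)))))))
    simp only [List.mem_cons, List.not_mem_nil, or_false] at hD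
    rcases hD with rfl | rfl | rfl | rfl | rfl
    · exact .inl ⟨Nat.le_of_dvd Fintype.card_pos h3, ⟨e⟩⟩
    · exact .inr (.inl ⟨e⟩)
    · exact .inr (.inr (.inl ⟨e⟩))
    · exact .inr (.inr (.inr (.inl ⟨e⟩)))
    · exact .inr (.inr (.inr (.inr ⟨e⟩)))
  · exact not_notAb h.abq e (H371.HT.notAb_untw hD h3)

/-- the prime three does not occur for `²E₆` -/
theorem tw6_3 {F : Type} [Field F] [Fintype F] {r : ℕ} (hr : IsPrimePow r) (hF : Fintype.card F = r ^ 2)
    (e : S ≃* ↥(Lie.twistedE6 F r)) : ¬ Pair p 3 S := fun h => by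
  by_cases h3 : 3 ∣ Fintype.card F
  · have := charP_of Nat.prime_three h3
    exact not_char h (.inr (.inr (.inr (.inr (.inr (.inr (.inr (.inl ⟨F, inferInstance, inferInstance, this, r, hr, .inl ⟨hF, ⟨e⟩⟩⟩))))))))
  · exact not_notAb h.abq e (H371.HT.notAb_twE6 hr hF h3)

/-- the prime three does not occur for `³D₄` -/
theorem tw4_3 {F : Type} [Field F] [Fintype F] {r : ℕ} (hr : IsPrimePow r) (hF : Fintype.card F = r ^ 3)
    (e : S ≃* ↥(Lie.twistedD4 F r)) : ¬ Pair p 3 S := fun h => by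
  by_cases h3 : 3 ∣ Fintype.card F
  · have := charP_of Nat.prime_three h3
    exact not_char h (.inr (.inr (.inr (.inr (.inr (.inr (.inr (.inl ⟨F, inferInstance, inferInstance, this, r, hr, .inr ⟨hF, ⟨e⟩⟩⟩))))))))
  · exact not_notAb h.abq e (H371.HT.notAb_twD4 hr hF h3)

/-- the prime three does not occur for `²F₄` -/
theorem tf4_3 (hS : Lie.Iso2F4 S) : ¬ Pair p 3 S := fun h => by
  obtain ⟨F, i1, i2, m, -, hF, ⟨e⟩⟩ := hS
  exact not_notAb h.abq e (H371.HT.notAb_twF4 hF)

theorem m22_3 [Finite S] (hS : Spor.IsoM22 S) : ¬ Pair p 3 S := fun h => by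
  obtain ⟨e⟩ := hS
  obtain ⟨hc, ⟨s, -, -, hs, -, -, -, h36, -⟩, -, -⟩ := H968.TwoM22.three.congr e.symm
  have h1 := com_class h.pq h.pp h.com.symm s ⟨1, by rw [hs, pow_one]⟩
  have h2 := (centralizer ({s} : Set S)).card_mul_index
  rw [h36, hc] at h2
  have h3 : (centralizer ({s} : Set S)).index = 12320 := by omega
  have h4 := h.dp
  rw [hc, show 443520 = 12320 * (2 ^ 2 * 3 ^ 2) by norm_num] at h4
  rw [h3] at h1
  rcases h.pp.dvd_mul.1 ((h.pp.dvd_mul.1 h4).resolve_left h1) with h5 | h5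
  · exact h.p2 ((Nat.prime_dvd_prime_iff_eq h.pp Nat.prime_two).1 (h.pp.dvd_of_dvd_pow h5))
  · exact h.ne ((Nat.prime_dvd_prime_iff_eq h.pp Nat.prime_three).1 (h.pp.dvd_of_dvd_pow h5))

theorem on_3 [Finite S] (hS : Spor.IsoON S) : ¬ Pair p 3 S := fun h => by
  obtain ⟨e⟩ := hS
  have : Finite Spor.ON := Finite.of_equiv _ e.toEquiv
  have : Fact p.Prime := ⟨h.pp⟩
  obtain ⟨Q, hQ⟩ := H404.K6.ON.cp
  obtain ⟨P, hP⟩ := com_given h.pq (com_surj h.pp h.pq h.com e.toMonoidHom e.surjective).symm Q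
  obtain ⟨⟨x, hxP⟩, hx⟩ := exists_prime_orderOf_dvd_card' p (G := P)
    (P.dvd_card_of_dvd_card (by rw [← Nat.card_congr e.toEquiv]; exact h.dp))
  rw [orderOf_mk] at hx
  obtain ⟨k, hk⟩ := hQ x (mem_centralizer_iff.2 fun y hy => hP y hy x hxP)
  rw [hx] at hk
  exact h.ne ((Nat.prime_dvd_prime_iff_eq h.pp Nat.prime_three).1 (h.pp.dvd_of_dvd_pow (dvd_of_eq hk)))

/-- the prime three does not occur for the sporadic groups with a triple cover -/
theorem spor3 [Finite S] (hS : SporThree S) : ¬ Pair p 3 S := fun h => by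
  have h1 := not_notAb h.abq (MulEquiv.refl S)
  rcases hS with hS | hS | hS | hS | hS | hS | hS
  · exact m22_3 hS h
  · exact h1 (H800.Sp.NotAbRows.j3_3 hS)
  · exact h1 (H800.Sp.NotAbRows.mcl_3 hS)
  · exact h1 (H800.Sp.NotAbRows.suz_3 hS)
  · exact on_3 hS h
  · exact h1 (H800.Sp.NotAbRows.fi22_3 hS)
  · exact h1 (H800.Sp.NotAbRows.fi24_3 hS)

/-- **The list of the multipliers.** -/
theorem not_case [Finite S] (h : Pair p q S) : ¬ MulCase q S := fun hc => by
  have h2 := h.q2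
  cases hc with
  | alt_two n hn e hp => exact absurd hp h2
  | alt_three n hn e hp => exact absurd h (Alt.not_pair ⟨n, by omega, e⟩)
  | psl F _ _ n hn _ e hp => exact e.elim fun e => absurd hp (psl h hn e)
  | psl_two F _ _ n e hn hp => exact absurd hp h2
  | psl_nine F _ _ hF e hp =>
    subst hp
    exact absurd (.inl ⟨F, inferInstance, inferInstance, charP_of Nat.prime_three (by rw [hF]; norm_num), 2, le_rfl,
      fun _ => by rw [hF]; norm_num, e⟩) (not_char h)
  | psp F _ _ m hm _ e ho hp => exact absurd hp h2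
  | psu F _ _ n r hF hn _ e hp => exact e.elim fun e => absurd hp (psu h hF hn e)
  | psu_two F _ _ n hF hn e hp => exact absurd hp h2
  | psu_three F _ _ hF e hp =>
    subst hp
    exact absurd (.inr (.inr (.inl ⟨F, inferInstance, inferInstance, charP_of Nat.prime_three (by rw [hF]; norm_num), 4, 3,
      by rw [hF]; norm_num, by norm_num, by norm_num, e⟩))) (not_char h)
  | omegaOdd F _ _ m hm ho e hp => exact absurd hp h2
  | omegaSeven F _ _ hF e hp =>
    subst hp
    exact absurd (.inr (.inr (.inr (.inl ⟨F, inferInstance, inferInstance, charP_of Nat.prime_three (by rw [hF]), 3, le_rfl,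
      by rw [hF]; decide, e⟩)))) (not_char h)
  | omegaPlus F _ _ m hm ho e hp => exact absurd hp h2
  | omegaMinus F _ _ m hm a b hab ho e hp => exact absurd hp h2
  | g2 F _ _ hF e =>
    rcases hF with ⟨rfl, -⟩ | ⟨hp, -⟩
    · exact e.elim fun e => absurd h (chev3 (by simp) e)
    · exact absurd hp h2
  | f4 F _ _ hF e hp => exact absurd hp h2
  | e6 F _ _ h3 e hp =>
    subst hp
    exact e.elim fun e => absurd h (chev3 (by simp) e)
  | e7 F _ _ ho e hp => exact absurd hp h2
  | te6 K _ _ r hr hK h3 e =>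
    rcases h3 with ⟨rfl, -⟩ | ⟨hp, -⟩
    · exact e.elim fun e => absurd h (tw6_3 hr hK e)
    · exact absurd hp h2
  | sz F _ _ hF e hp => exact absurd hp h2
  | spor_two _ hp => exact absurd hp h2
  | spor_three hs hp =>
    subst hp
    exact spor3 hs h

/-- **The row `Mu` for all known simple groups.** -/
theorem known : All Known Mu := fun _ _ _ _ hn hK _ _ h Γ _ _ σ hσ =>
  (noMul_or.{0} h.pq hn hK).resolve_right (not_case h) Γ σ hσ

end Cfsg.Agent.PQ.MuL
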